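import Cfsg.Agent.H508.KB.Defs
import Cfsg.Agent.H611.CoverPrincipal
import Cfsg.Agent.H133.PB.Basic
import Cfsg.Agent.H678.Constit
import Cfsg.Agent.OddOrderCharacters.IndRes

/-!
# Orbits on the principal block of a normal subgroup (S4822, W1)

* `card_over_le` : an irreducible character of `N` lies under at most `|G : N|` irreducible characters;
* `kB_le_mul` : `k(B₀(G)) ≤ |G : N| * (number of orbits on Irr(B₀(N)))`;
* `kap_le` : transport of `kap` along an isomorphism of the normal subgroups;
* `kB_congr`.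
-/

set_option autoImplicit false

open Cfsg Subgroup Cfsg.Agent.H508.KB
open scoped ComplexConjugate

namespace Cfsg.Agent.H328.KB

open Cfsg.Agent.Characters.Core

universe u v

section one

variable {G : Type u} [Group G] [Finite G]

theorem card_over_le (N : Subgroup G) (θ : IrrCharacter N) :
    Nat.card {χ : IrrCharacter G // Over N χ θ} ≤ N.index := by
  classical
  have := Fintype.ofFinite G
  have := Fintype.ofFinite N
  have := finite_irr (G := G)
  have := Fintype.ofFinite (IrrCharacter G)
  have hθ := isIrr_isCharacter θ.2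
  have hind : IsCharacter G (indFun N (θ : N → ℂ)) := OddOrderCharacters.IndRes.isCharacter_indFun N hθ
  obtain ⟨m, hm, hdeg⟩ := H678.Constit.exists_decomp hind
  have hd1 : (charDegree (indFun N (θ : N → ℂ)) : ℂ) = (N.index : ℂ) * (charDegree (θ : N → ℂ) : ℂ) := by
    rw [H686.CharKit.charDegree_cast hind, H686.CharKit.charDegree_cast hθ, OddOrderCharacters.IndRes.indFun_apply_one]
  have hd2 : charDegree (indFun N (θ : N → ℂ)) = N.index * charDegree (θ : N → ℂ) := by exact_mod_cast hd1
  have hdpos : 0 < charDegree (θ : N → ℂ) := by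
    obtain ⟨n, hn, h1⟩ := isIrr_apply_one θ.2
    have h2 := H686.CharKit.charDegree_cast hθ
    rw [h1] at h2
    have : charDegree (θ : N → ℂ) = n := by exact_mod_cast h2
    omega
  have key : ∀ ψ : IrrCharacter G, Over N ψ θ → 1 ≤ m ψ ∧ charDegree (θ : N → ℂ) ≤ charDegree (ψ : G → ℂ) := by
    intro ψ hψ
    have hψ1 := over_iff.1 hψ
    constructor
    · rw [Nat.one_le_iff_ne_zero]
      intro h0
      apply hψ1
      have h2 := classInner_sum_nsmul_irr m ψ
      rw [← hm, h0, Nat.cast_zero,
        OddOrderCharacters.IndRes.classInner_indFun_left N _ (isIrr_isClassFunction ψ.2)] at h2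
      have h3 := classInner_conj_symm (θ : N → ℂ) (fun n : N => (ψ : G → ℂ) n)
      have h4 : classInner (θ : N → ℂ) (fun n : N => (ψ : G → ℂ) n) = 0 := h2
      rw [← h3, h4, map_zero]
    · have hres : IsCharacter N (fun x : N => (ψ : G → ℂ) x) :=
        Cfsg.Agent.Characters.Clifford.isCharacter_restrict N (isIrr_isCharacter ψ.2)
      obtain ⟨β, hβ, hsum⟩ := H678.Constit.exists_add_of_classInner_ne_zero hres θ.2 hψ1
      have h1 : (charDegree (ψ : G → ℂ) : ℂ) = (charDegree (θ : N → ℂ) : ℂ) + (charDegree β : ℂ) := by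
        rw [H686.CharKit.charDegree_cast (isIrr_isCharacter ψ.2), H686.CharKit.charDegree_cast hθ, H686.CharKit.charDegree_cast hβ]
        exact congrFun hsum 1
      have h2 : charDegree (ψ : G → ℂ) = charDegree (θ : N → ℂ) + charDegree β := by exact_mod_cast h1
      omega
  rw [hd2] at hdeg
  have h5 : Nat.card {χ : IrrCharacter G // Over N χ θ} * charDegree (θ : N → ℂ) ≤
      ∑ ψ : IrrCharacter G, m ψ * charDegree (ψ : G → ℂ) := by
    rw [Nat.card_eq_fintype_card, Fintype.card_subtype, ← smul_eq_mul, ← Finset.sum_const]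
    refine (Finset.sum_le_sum fun ψ hψ => ?_).trans (Finset.sum_le_sum_of_subset (Finset.subset_univ _))
    obtain ⟨h6, h7⟩ := key ψ (Finset.mem_filter.1 hψ).2
    calc charDegree (θ : N → ℂ) ≤ 1 * charDegree (ψ : G → ℂ) := by rw [one_mul]; exact h7
      _ ≤ m ψ * charDegree (ψ : G → ℂ) := Nat.mul_le_mul_right _ h6
  rw [← hdeg] at h5
  exact Nat.le_of_mul_le_mul_right h5 hdpos

theorem exists_under (N : Subgroup G) (χ : IrrCharacter G) : ∃ θ : IrrCharacter N, Over N χ θ := by
  classical
  have := Fintype.ofFinite G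
  have := Fintype.ofFinite N
  have hres : IsCharacter N (fun x : N => (χ : G → ℂ) x) :=
    Cfsg.Agent.Characters.Clifford.isCharacter_restrict N (isIrr_isCharacter χ.2)
  obtain ⟨θ, hθ, h⟩ := H678.Constit.exists_constituent hres (fun h0 => by
    have h1 := congrFun h0 1
    exact isIrr_apply_one_ne_zero χ.2 h1)
  exact ⟨⟨θ, hθ⟩, over_iff.2 h⟩

theorem over_conj {N : Subgroup G} [N.Normal] {χ : IrrCharacter G} {θ θ' : IrrCharacter N} (h : Over N χ θ)
    (a : G) (hc : ∀ s : N, (θ' : N → ℂ) s = (θ : N → ℂ) (MulAut.conjNormal a s)) : Over N χ θ' := by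
  have := Fintype.ofFinite N
  have e : ∑ᶠ n : N, (χ : G → ℂ) n * conj ((θ' : N → ℂ) n) = ∑ᶠ n : N, (χ : G → ℂ) n * conj ((θ : N → ℂ) n) := by
    rw [finsum_eq_sum_of_fintype, finsum_eq_sum_of_fintype]
    refine Fintype.sum_equiv (MulAut.conjNormal a : MulAut N).toEquiv _ _ fun n => ?_
    rw [hc]
    congr 1
    have h1 := isIrr_isClassFunction χ.2 (n : G) a
    show (χ : G → ℂ) n = (χ : G → ℂ) ((MulAut.conjNormal a n : N) : G)
    rw [MulAut.conjNormal_apply, h1]
  unfold Over at h ⊢
  rwa [e]

end one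

/-- fibres of bounded size -/
theorem card_le_mul_of_fibre {α β : Type*} [Finite α] [Finite β] (f : α → β) (n : ℕ) (h : ∀ b, Nat.card {a // f a = b} ≤ n) :
    Nat.card α ≤ n * Nat.card β := by
  have := Fintype.ofFinite α
  have := Fintype.ofFinite β
  have h1 : Nat.card α = ∑ b : β, Nat.card {a // f a = b} := by
    rw [← Nat.card_sigma]
    exact Nat.card_congr (Equiv.sigmaFiberEquiv f).symm
  rw [h1]
  refine (Finset.sum_le_sum fun b _ => h b).trans ?_
  rw [Finset.sum_const, smul_eq_mul, Finset.card_univ, ← Nat.card_eq_fintype_card, mul_comm]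

section two

variable {G : Type u} [Group G] [Finite G] {M : Ideal AlgInt}

theorem kB_le_mul {p : ℕ} [Fact p.Prime] (hM : IsPModular p M) (N : Subgroup G) [N.Normal] :
    kB M G ≤ N.index * kap M N := by
  classical
  have := Fintype.ofFinite G
  have := Fintype.ofFinite N
  have := finite_irr (G := G)
  have := finite_irr (G := N)
  have hex : ∀ χ : principalBlock M G, ∃ θ : principalBlock M N, Over N χ.1 θ.1 := by
    intro χ
    obtain ⟨θ, hθ⟩ := exists_under N χ.1
    exact ⟨⟨θ, H611.CoverPrincipal.mem_principalBlock_of_over p hM N χ.1 θ (over_iff.1 hθ) χ.2⟩, hθ⟩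
  choose F hF using hex
  refine card_le_mul_of_fibre (fun χ : principalBlock M G => (Quotient.mk (orbSetoid M N) (F χ))) N.index fun b => ?_
  induction b using Quotient.inductionOn with
  | h θ =>
    refine le_trans ?_ (card_over_le N θ.1)
    refine Nat.card_le_card_of_injective (fun χ => ⟨χ.1.1, ?_⟩) ?_
    · obtain ⟨a, ha⟩ := Quotient.exact χ.2
      exact over_conj (hF χ.1) a ha
    · intro χ ψ h
      exact Subtype.ext (Subtype.ext (Subtype.mk.inj h))

end two

section three

variable {A : Type u} [Group A] [Finite A] {G : Type v} [Group G] [Finite G] {M : Ideal AlgInt} [M.IsPrime]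

/-- transport of the principal block -/
noncomputable def trB {H : Type u} {K : Type v} [Group H] [Group K] (e : H ≃* K) (χ : principalBlock M H) : principalBlock M K :=
  ⟨_, H133.PB.mem_principalBlock_comp e.symm.toMonoidHom e.symm.surjective χ.2⟩

theorem trB_apply {H : Type u} {K : Type v} [Group H] [Group K] (e : H ≃* K) (χ : principalBlock M H) (k : K) :
    ((trB e χ).1 : K → ℂ) k = (χ.1 : H → ℂ) (e.symm k) := rfl

theorem trB_trB {H : Type u} {K : Type v} [Group H] [Group K] (e : H ≃* K) (χ : principalBlock M K) :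
    trB e (trB e.symm χ) = χ := by
  refine Subtype.ext (Subtype.ext (funext fun k => ?_))
  show (χ.1 : K → ℂ) (e.symm.symm (e.symm k)) = _
  simp

theorem kB_congr {H : Type u} {K : Type v} [Group H] [Group K] (e : H ≃* K) : kB M H = kB M K := by
  refine Nat.card_congr ⟨trB e, trB e.symm, fun χ => ?_, fun χ => trB_trB e χ⟩
  refine Subtype.ext (Subtype.ext (funext fun k => ?_))
  show (χ.1 : H → ℂ) (e.symm (e.symm.symm k)) = _
  simp

theorem kap_le {T : Subgroup A} [T.Normal] {N : Subgroup G} [N.Normal] (e : T ≃* N)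
    (h : ∀ a : A, ∃ g : G, ∀ t : T, e (MulAut.conjNormal a t) = MulAut.conjNormal g (e t)) :
    kap M N ≤ kap M T := by
  have := finite_irr (G := T)
  have hf : ∀ χ ψ : principalBlock M T, (orbSetoid M T).r χ ψ → (orbSetoid M N).r (trB e χ) (trB e ψ) := by
    rintro χ ψ ⟨a, ha⟩
    obtain ⟨g, hg⟩ := h a
    refine ⟨g, fun s => ?_⟩
    rw [trB_apply, trB_apply, ha]
    refine congrArg (χ.1 : T → ℂ) ?_
    apply e.injective
    rw [hg, e.apply_symm_apply, e.apply_symm_apply]
  refine Nat.card_le_card_of_surjective (Quotient.map (trB e) hf) fun b => ?_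
  induction b using Quotient.inductionOn with
  | h ψ => exact ⟨Quotient.mk _ (trB e.symm ψ), by rw [Quotient.map_mk, trB_trB]⟩

end three

end Cfsg.Agent.H328.KB
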