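import Cfsg.Agent.H508.KB.Defs
import Cfsg.Agent.H296.KB.Rank
import Cfsg.Agent.H973.KB.Cyc

/-!
# Elements of order `p` in the symmetric groups (S4822, W1)
-/

set_option autoImplicit false
set_option linter.unusedSectionVars false

open Cfsg Subgroup Cfsg.Agent.H508.KB Equiv

namespace Cfsg.Agent.H328.KB

open H296.KB

variable {p : ℕ} [hp : Fact p.Prime] {M : Ideal AlgInt}

/-! ### the Sylow subgroups of the small symmetric groups -/

theorem not_sq_dvd_factorial {s : ℕ} (hs : s < p) : ¬ p ^ 2 ∣ (p + s).factorial := by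
  have hp' := hp.out
  induction s with
  | zero =>
    intro h
    obtain ⟨r, hr⟩ := Nat.exists_eq_succ_of_ne_zero hp'.pos.ne'
    rw [add_zero, ← Nat.mul_factorial_pred hp'.pos.ne', pow_two] at h
    have h1 := (Nat.mul_dvd_mul_iff_left hp'.pos).1 h
    rw [hp'.dvd_factorial] at h1
    have := hp'.pos
    omega
  | succ s ih =>
    intro h
    rw [← add_assoc, Nat.factorial_succ] at h
    have h1 : Nat.Coprime (p ^ 2) (p + s + 1) := by
      refine Nat.Coprime.pow_left 2 ((Nat.Prime.coprime_iff_not_dvd hp').2 fun h2 => ?_)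
      rw [add_assoc, Nat.dvd_add_right (dvd_refl p)] at h2
      have := Nat.le_of_dvd (Nat.succ_pos s) h2
      omega
    exact ih (by omega) (h1.dvd_of_dvd_mul_left h)

theorem cyclic_of_not_sq_dvd {Q : Type*} [Group Q] [Finite Q] (h : ¬ p ^ 2 ∣ Nat.card Q) (P : Sylow p Q) :
    IsCyclic (P : Subgroup Q) := by
  obtain ⟨n, hn⟩ := IsPGroup.iff_card.1 P.isPGroup'
  have h1 : n ≤ 1 := by
    by_contra h2
    apply h
    refine (pow_dvd_pow p (show 2 ≤ n by omega)).trans ?_
    rw [← hn]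
    exact Subgroup.card_subgroup_dvd_card _
  interval_cases n
  · rw [pow_zero] at hn
    have : Subsingleton (P : Subgroup Q) := (Nat.card_eq_one_iff_unique.1 hn).1
    exact isCyclic_of_subsingleton
  · rw [pow_one] at hn
    exact isCyclic_of_prime_card hn

/-! ### the permutations -/

/-- the shift of `ZMod p` -/
def sh (p : ℕ) : Perm (ZMod p) := Equiv.addRight 1

theorem sh_apply (x : ZMod p) : sh p x = x + 1 := rfl

theorem sh_pow (n : ℕ) : (sh p) ^ n = Equiv.addRight (n : ZMod p) := by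
  induction n with
  | zero =>
    ext x
    simp
  | succ n ih =>
    rw [pow_succ, ih]
    ext x
    simp only [Perm.mul_apply, sh_apply, Equiv.coe_addRight, Nat.cast_succ]
    ring

theorem sh_pow_p : (sh p) ^ p = 1 := by
  rw [sh_pow]
  ext x
  simp

theorem sh_ne (x : ZMod p) : sh p x ≠ x := by
  rw [sh_apply]
  intro h
  have : (1 : ZMod p) = 0 := by linear_combination h
  exact one_ne_zero this

/-- multiplication with a unit -/
def mu (u : (ZMod p)ˣ) : Perm (ZMod p) := Units.mulLeft u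

theorem mu_sh (u : (ZMod p)ˣ) : mu u * sh p * (mu u)⁻¹ = sh p ^ ((u : ZMod p).val) := by
  rw [mul_inv_eq_iff_eq_mul, sh_pow]
  ext x
  simp only [Perm.mul_apply, mu, Units.mulLeft_apply, sh_apply, Equiv.coe_addRight, ZMod.natCast_val, ZMod.cast_id', id]
  ring

/-- the action on the second component -/
def pr (k : ℕ) (Z : Type) : Perm Z →* Perm (Fin k × Z) where
  toFun σ := Equiv.prodCongr (Equiv.refl _) σ
  map_one' := by ext x <;> rfl
  map_mul' σ τ := by ext x <;> rfl

theorem pr_apply (k : ℕ) {Z : Type} (σ : Perm Z) (x : Fin k × Z) : pr k Z σ x = (x.1, σ x.2) := rfl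

/-- the set on which we act -/
abbrev X (p k s : ℕ) := (Fin k × ZMod p) ⊕ (ZMod p ⊕ Fin s)

/-- `k` cycles -/
def x1 (p k s : ℕ) : Perm (X p k s) := Perm.sumCongrHom _ _ (pr k _ (sh p), 1)

/-- `k + 1` cycles -/
def x2 (p k s : ℕ) : Perm (X p k s) := Perm.sumCongrHom _ _ (pr k _ (sh p), Perm.sumCongrHom _ _ (sh p, 1))

theorem x1_pow (k s : ℕ) : x1 p k s ^ p = 1 := by
  rw [x1, ← map_pow, Prod.pow_mk, ← map_pow, sh_pow_p, one_pow, map_one]
  exact map_one _

theorem x2_pow (k s : ℕ) : x2 p k s ^ p = 1 := by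
  rw [x2, ← map_pow, Prod.pow_mk, ← map_pow, ← map_pow, Prod.pow_mk, sh_pow_p, one_pow, map_one]
  rw [show ((1 : Perm (ZMod p)), (1 : Perm (Fin s))) = 1 from rfl, map_one]
  exact map_one _

theorem x1_inl {k s : ℕ} (x : Fin k × ZMod p) : x1 p k s (Sum.inl x) = Sum.inl (x.1, sh p x.2) := rfl
theorem x1_inr {k s : ℕ} (x : ZMod p ⊕ Fin s) : x1 p k s (Sum.inr x) = Sum.inr x := rfl
theorem x2_inl {k s : ℕ} (x : Fin k × ZMod p) : x2 p k s (Sum.inl x) = Sum.inl (x.1, sh p x.2) := rfl
theorem x2_inr_inl {k s : ℕ} (x : ZMod p) : x2 p k s (Sum.inr (Sum.inl x)) = Sum.inr (Sum.inl (sh p x)) := rfl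
theorem x2_inr_inr {k s : ℕ} (x : Fin s) : x2 p k s (Sum.inr (Sum.inr x)) = Sum.inr (Sum.inr x) := rfl

theorem x1_fix {k s : ℕ} (z : X p k s) : x1 p k s z = z ↔ z ∈ Set.range Sum.inr := by
  rcases z with z | z
  · rw [x1_inl]
    constructor
    · intro h
      exact absurd (congrArg Prod.snd (Sum.inl.inj h)) (sh_ne z.2)
    · rintro ⟨y, hy⟩
      exact absurd hy (by simp)
  · exact ⟨fun _ => ⟨z, rfl⟩, fun _ => x1_inr z⟩

theorem x2_fix {k s : ℕ} (z : X p k s) : x2 p k s z = z ↔ z ∈ Set.range (fun x : Fin s => (Sum.inr (Sum.inr x) : X p k s)) := by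
  rcases z with z | z | z
  · rw [x2_inl]
    constructor
    · intro h
      exact absurd (congrArg Prod.snd (Sum.inl.inj h)) (sh_ne z.2)
    · rintro ⟨y, hy⟩
      exact absurd hy (by simp)
  · rw [x2_inr_inl]
    constructor
    · intro h
      exact absurd (Sum.inl.inj (Sum.inr.inj h)) (sh_ne z)
    · rintro ⟨y, hy⟩
      exact absurd hy (by simp)
  · exact ⟨fun _ => ⟨z, rfl⟩, fun _ => x2_inr_inr z⟩

/-- the fixed points of conjugate permutations -/
theorem card_fix_of_isConj {Y : Type*} [Finite Y] {x y : Perm Y} (h : IsConj x y) :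
    Nat.card {z // x z = z} = Nat.card {z // y z = z} := by
  obtain ⟨c, hc⟩ := isConj_iff.1 h
  refine Nat.card_congr (c.subtypeEquiv fun z => ?_)
  rw [← hc]
  simp

theorem card_x1 (k s : ℕ) : Nat.card {z // x1 p k s z = z} = p + s := by
  have h : Nat.card {z // x1 p k s z = z} = Nat.card (ZMod p ⊕ Fin s) := by
    rw [Nat.card_congr (Equiv.subtypeEquivRight fun z => x1_fix z)]
    exact Nat.card_congr (Equiv.ofInjective _ Sum.inr_injective).symm
  rw [h, Nat.card_sum, Nat.card_zmod, Nat.card_fin]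

theorem card_x2 (k s : ℕ) : Nat.card {z // x2 p k s z = z} = s := by
  have h : Nat.card {z // x2 p k s z = z} = Nat.card (Fin s) := by
    rw [Nat.card_congr (Equiv.subtypeEquivRight fun z => x2_fix z)]
    refine Nat.card_congr (Equiv.ofInjective (fun x : Fin s => (Sum.inr (Sum.inr x) : X p k s)) fun a b hab => ?_).symm
    exact Sum.inr.inj (Sum.inr.inj hab)
  rw [h, Nat.card_fin]

theorem card_one (k s : ℕ) : Nat.card {z : X p k s // (1 : Perm (X p k s)) z = z} = k * p + (p + s) := by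
  have h : Nat.card {z : X p k s // (1 : Perm (X p k s)) z = z} = Nat.card (X p k s) :=
    Nat.card_congr (Equiv.subtypeUnivEquiv fun z => rfl)
  rw [h, Nat.card_sum, Nat.card_prod, Nat.card_sum, Nat.card_zmod, Nat.card_fin, Nat.card_fin]

/-! ### restriction to the second summand -/

section restr

variable {α β : Type} [Finite α] [Finite β] (H : Subgroup (Perm (α ⊕ β)))
  (hH : ∀ c ∈ H, Set.MapsTo c (Set.range Sum.inl) (Set.range Sum.inl))

/-- restriction to the second summand -/
noncomputable def restr : H →* Perm β :=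
  (MonoidHom.snd _ _).comp (((MonoidHom.ofInjective (Perm.sumCongrHom_injective (α := α) (β := β))).symm.toMonoidHom).comp
    (Subgroup.inclusion fun c hc => Perm.mem_sumCongrHom_range_of_perm_mapsTo_inl (hH c hc)))

theorem restr_surj (hsurj : ∀ τ : Perm β, Perm.sumCongrHom α β (1, τ) ∈ H) : Function.Surjective (restr H hH) := by
  intro τ
  refine ⟨⟨_, hsurj τ⟩, ?_⟩
  have h1 : (MonoidHom.ofInjective (Perm.sumCongrHom_injective (α := α) (β := β))).symm
      (Subgroup.inclusion (fun c hc => Perm.mem_sumCongrHom_range_of_perm_mapsTo_inl (hH c hc)) ⟨_, hsurj τ⟩) = (1, τ) := by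
    rw [MulEquiv.symm_apply_eq]
    rfl
  show ((MonoidHom.ofInjective (Perm.sumCongrHom_injective (α := α) (β := β))).symm
      (Subgroup.inclusion (fun c hc => Perm.mem_sumCongrHom_range_of_perm_mapsTo_inl (hH c hc)) ⟨_, hsurj τ⟩)).2 = τ
  rw [h1]

end restr

/-! ### ranks -/

theorem orderOf_shift {Y : Type} (f : Perm (ZMod p) →* Perm Y) (hf : Function.Injective f) : orderOf (f (sh p)) = p ^ 1 := by
  rw [orderOf_injective f hf, pow_one]
  refine orderOf_eq_prime sh_pow_p fun h => sh_ne (0 : ZMod p) ?_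
  rw [h]
  rfl

/-- the principal block of the symmetric group of degree `p + s` -/
theorem rank_perm (hM : IsPModular p M) {s : ℕ} (hs : s < p) :
    p - 1 ≤ blockRank p (principalBlock M (Perm (ZMod p ⊕ Fin s))) := by
  have hcard : Nat.card (Perm (ZMod p ⊕ Fin s)) = (p + s).factorial := by
    rw [Nat.card_perm, Nat.card_sum, Nat.card_zmod, Nat.card_fin]
  obtain ⟨u, hu⟩ := IsCyclic.exists_generator (α := (ZMod p)ˣ)
  have hu1 : orderOf u = p - 1 := by
    rw [orderOf_eq_card_of_forall_mem_zpowers hu, Nat.card_eq_fintype_card, ZMod.card_units]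
  let f : Perm (ZMod p) →* Perm (ZMod p ⊕ Fin s) := (Perm.sumCongrHom (ZMod p) (Fin s)).comp (MonoidHom.inl _ _)
  have hf : Function.Injective f := Perm.sumCongrHom_injective.comp (fun a b h => (Prod.mk.inj h).1)
  have hy := orderOf_shift f hf
  have h1 := H973.KB.rank_cyclic (p := p) (M := M) hM (default : Sylow p (Perm (ZMod p ⊕ Fin s)))
    (cyclic_of_not_sq_dvd (by rw [hcard]; exact not_sq_dvd_factorial hs) _) (f (sh p)) (f (mu u))
    (fun h => by rw [h, orderOf_one, pow_one] at hy; exact hp.out.one_lt.ne hy) 1 hy ((u : ZMod p).val) (by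
      rw [← map_mul, ← map_inv, ← map_mul, mu_sh, map_pow])
  rwa [ZMod.natCast_zmod_val, orderOf_units, hu1] at h1

theorem mapsTo_of_comm {k s : ℕ} {c : Perm (X p k s)} (hc : c * x1 p k s = x1 p k s * c) :
    Set.MapsTo c (Set.range Sum.inl) (Set.range Sum.inl) := by
  rintro _ ⟨z, rfl⟩
  by_contra h
  have h1 : c (Sum.inl z) ∈ Set.range (Sum.inr : _ → X p k s) := by
    rcases h2 : c (Sum.inl z) with y | y
    · exact absurd ⟨y, h2.symm⟩ h
    · exact ⟨y, rfl⟩
  rw [← x1_fix] at h1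
  have h2 : c (x1 p k s (Sum.inl z)) = c (Sum.inl z) := by
    rw [← Perm.mul_apply, hc, Perm.mul_apply, h1]
  have h3 := (x1_fix _).1 (c.injective h2)
  obtain ⟨y, hy⟩ := h3
  exact absurd hy (by simp)

theorem rank_x1 (hM : IsPModular p M) (k : ℕ) {s : ℕ} (hs : s < p) :
    p - 1 ≤ blockRank p (principalBlock M ↥(centralizer ({x1 p k s} : Set (Perm (X p k s))))) := by
  refine (rank_perm hM hs).trans ?_
  refine rank_quot_le hM (restr (centralizer ({x1 p k s} : Set (Perm (X p k s)))) fun c hc => ?_) (restr_surj _ _ fun τ => ?_)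
  · exact mapsTo_of_comm (mem_centralizer_singleton_iff.1 hc)
  · rw [mem_centralizer_singleton_iff, x1, ← map_mul, ← map_mul]
    congr 1

theorem rank_one_elt (hM : IsPModular p M) (h2 : 2 < p) {k s : ℕ} (hk : 0 < k) :
    2 ≤ blockRank p (principalBlock M ↥(centralizer ({1} : Set (Perm (X p k s))))) := by
  have hall : ∀ c : Perm (X p k s), c ∈ centralizer ({1} : Set (Perm (X p k s))) := fun c =>
    mem_centralizer_singleton_iff.2 (by simp)
  let c0 : Perm (X p k s) := Perm.sumCongrHom _ _ (pr k _ (mu (-1)), 1)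
  have hc0 : c0 ^ 2 = 1 := by
    show (Perm.sumCongrHom _ _ (pr k _ (mu (-1)), 1)) ^ 2 = 1
    rw [← map_pow, Prod.pow_mk, ← map_pow, one_pow]
    have h3 : (mu (-1 : (ZMod p)ˣ)) ^ 2 = 1 := by
      ext x
      simp [mu, pow_two]
    rw [h3, map_one]
    exact map_one _
  have hcx : c0 * x1 p k s * c0⁻¹ = (x1 p k s)⁻¹ := by
    show Perm.sumCongrHom _ _ (pr k _ (mu (-1)), 1) * x1 p k s * (Perm.sumCongrHom _ _ (pr k _ (mu (-1)), 1))⁻¹ = _
    rw [x1, ← map_inv, ← map_mul, ← map_mul, ← map_inv, Prod.inv_mk, Prod.inv_mk, Prod.mk_mul_mk, Prod.mk_mul_mk, ← map_inv, ← map_mul,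
      ← map_mul, ← map_inv, mu_sh]
    congr 3
    rw [eq_inv_iff_mul_eq_one, sh_pow]
    ext x
    simp [sh_apply]
  have hx1 : x1 p k s ≠ (x1 p k s)⁻¹ := by
    intro h
    have h3 : x1 p k s * x1 p k s = 1 := by
      nth_rewrite 2 [h]
      exact mul_inv_cancel _
    have h4 := congrArg (fun g : Perm (X p k s) => g (Sum.inl (⟨0, hk⟩, 0))) h3
    have h5 : (Sum.inl (⟨0, hk⟩, sh p (sh p 0)) : X p k s) = Sum.inl (⟨0, hk⟩, 0) := h4
    have h6 := congrArg Prod.snd (Sum.inl.inj h5)
    simp only [sh_apply] at h6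
    have h7 : ((2 : ℕ) : ZMod p) = 0 := by
      push_cast
      linear_combination h6
    rw [ZMod.natCast_eq_zero_iff] at h7
    have := Nat.le_of_dvd (by norm_num) h7
    omega
  refine two_le_rank hM (zpowers (⟨x1 p k s, hall _⟩ : ↥(centralizer ({1} : Set (Perm (X p k s)))))) ?_ ⟨c0, hall _⟩ ?_ ?_
    ⟨x1 p k s, hall _⟩ (mem_zpowers _) ?_
  · rintro ⟨y, hy⟩
    obtain ⟨n, rfl⟩ := mem_zpowers_iff.1 hy
    refine ⟨1, ?_⟩
    refine Subtype.ext ?_
    rw [pow_one]
    show (((⟨x1 p k s, hall _⟩ : ↥(centralizer ({1} : Set (Perm (X p k s))))) ^ n) ^ p) = 1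
    rw [← zpow_natCast, ← zpow_mul, mul_comm, zpow_mul, zpow_natCast]
    have h3 : (⟨x1 p k s, hall _⟩ : ↥(centralizer ({1} : Set (Perm (X p k s))))) ^ p = 1 := Subtype.ext (x1_pow k s)
    rw [h3, one_zpow]
  · rw [Subgroup.orderOf_mk]
    intro h3
    have h4 := h3.trans (orderOf_dvd_of_pow_eq_one hc0)
    have := Nat.le_of_dvd (by norm_num) h4
    omega
  · intro y hy
    obtain ⟨n, rfl⟩ := mem_zpowers_iff.1 hy
    rw [← conj_zpow]
    refine zpow_mem ?_ n
    have h3 : (⟨c0, hall _⟩ * ⟨x1 p k s, hall _⟩ * (⟨c0, hall _⟩)⁻¹ : ↥(centralizer ({1} : Set (Perm (X p k s))))) =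
      (⟨x1 p k s, hall _⟩)⁻¹ := Subtype.ext hcx
    rw [h3]
    exact inv_mem (mem_zpowers _)
  · intro h3
    have h4 : c0 * x1 p k s = x1 p k s * c0 := congrArg Subtype.val h3
    apply hx1
    rw [← hcx, h4, mul_assoc, mul_inv_cancel, mul_one]

theorem le_kB (hM : IsPModular p M) (h2 : 2 < p) {k s : ℕ} (hk : 0 < k) (hs : s < p) : p + 2 ≤ kB M (Perm (X p k s)) := by
  classical
  have h01 : (1 : Perm (X p k s)) ≠ x1 p k s := by
    intro h
    have h1 := card_one (p := p) k s
    rw [h, card_x1] at h1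
    have := Nat.mul_pos hk hp.out.pos
    omega
  have h02 : (1 : Perm (X p k s)) ≠ x2 p k s := by
    intro h
    have h1 := card_one (p := p) k s
    rw [h, card_x2] at h1
    have := hp.out.pos
    omega
  have h12 : x1 p k s ≠ x2 p k s := by
    intro h
    have h1 := card_x1 (p := p) k s
    rw [h, card_x2] at h1
    have := hp.out.pos
    omega
  have h := sum_le_kB (p := p) (M := M) hM ({1, x1 p k s, x2 p k s} : Finset (Perm (X p k s))) (by
    intro x hx
    have h1 : x ^ p = 1 := by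
      simp only [Finset.mem_insert, Finset.mem_singleton] at hx
      rcases hx with rfl | rfl | rfl
      · exact one_pow _
      · exact x1_pow k s
      · exact x2_pow k s
    obtain ⟨j, -, hj⟩ := (Nat.dvd_prime_pow hp.out).1 ((orderOf_dvd_of_pow_eq_one h1).trans (dvd_of_eq (pow_one p).symm))
    exact ⟨j, hj⟩) (by
    have key : ∀ x ∈ ({1, x1 p k s, x2 p k s} : Finset (Perm (X p k s))), ∀ y ∈ ({1, x1 p k s, x2 p k s} : Finset (Perm (X p k s))),
        Nat.card {z // x z = z} = Nat.card {z // y z = z} → x = y := by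
      have e1 := card_one (p := p) k s
      have e2 := card_x1 (p := p) k s
      have e3 := card_x2 (p := p) k s
      have h4 := Nat.mul_pos hk hp.out.pos
      have h5 := hp.out.pos
      intro x hx y hy h
      simp only [Finset.mem_insert, Finset.mem_singleton] at hx hy
      rcases hx with rfl | rfl | rfl <;> rcases hy with rfl | rfl | rfl <;>
        first | rfl | (exfalso; simp only [e1, e2, e3] at h; omega)
    intro x hx y hy h
    exact key x hx y hy (card_fix_of_isConj h))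
  rw [Finset.sum_insert (by simp [h01, h02]), Finset.sum_insert (by simp [h12]), Finset.sum_singleton] at h
  have h3 := rank_one_elt (s := s) hM h2 hk
  have h4 := rank_x1 hM k hs
  have h5 := one_le_rank (p := p) (M := M) (S := ↥(centralizer ({x2 p k s} : Set (Perm (X p k s))))) hM
  have := hp.out.pos
  omega

end Cfsg.Agent.H328.KB
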