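import Cfsg.Agent.H328.KB.Over
import Cfsg.Agent.H328.KB.Elt
import Cfsg.Agent.S2119
import Cfsg.Agent.H270.KB.Arith
import Cfsg.Agent.H546.KB.Three

/-!
# S4822, W1: the alternating groups
-/

set_option autoImplicit false

open Cfsg Subgroup Cfsg.Agent.H508.KB

namespace Cfsg.Agent.H328.KB

universe u

variable {p : ℕ} [hp : Fact p.Prime] {M : Ideal AlgInt}

theorem kB_perm (hM : IsPModular p M) (h2 : 2 < p) {m : ℕ} (hm : 2 * p ≤ m) : p + 2 ≤ kB M (Equiv.Perm (Fin m)) := by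
  have hpos := hp.out.pos
  have h1 := Nat.div_add_mod m p
  have h3 : 2 ≤ m / p := (Nat.le_div_iff_mul_le hpos).2 hm
  obtain ⟨k, hk⟩ : ∃ k, m / p = k + 1 := ⟨m / p - 1, by omega⟩
  have hk0 : 0 < k := by omega
  have hc : Nat.card (Fin m) = Nat.card (X p k (m % p)) := by
    rw [Nat.card_sum, Nat.card_prod, Nat.card_sum, Nat.card_zmod, Nat.card_fin, Nat.card_fin, Nat.card_fin]
    rw [hk] at h1
    rw [← add_assoc]
    nlinarith
  obtain ⟨e⟩ := Finite.card_eq.1 hc
  have : M.IsPrime := hM.2.1.isPrime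
  rw [kB_congr (M := M) (Equiv.permCongrHom e)]
  exact le_kB hM h2 hk0 (Nat.mod_lt _ hpos)

theorem two_mul_le {S : Type u} [Group S] [Finite S] {m : ℕ} (h5 : 5 ≤ m) (e : S ≃* alternatingGroup (Fin m))
    (hP : ∀ P : Sylow p S, ¬ IsCyclic (P : Subgroup S)) : 2 * p ≤ m := by
  by_contra hlt
  push Not at hlt
  have h1 : Nat.card S ∣ m.factorial := by
    rw [Nat.card_congr e.toEquiv]
    have h := Subgroup.card_subgroup_dvd_card (alternatingGroup (Fin m))
    rwa [Nat.card_perm, Nat.card_fin] at h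
  have h2 : ¬ p ^ 2 ∣ m.factorial := by
    by_cases hmp : m < p
    · intro h
      have := (hp.out.dvd_factorial).1 ((dvd_pow_self p two_ne_zero).trans h)
      omega
    · obtain ⟨s, rfl⟩ := Nat.exists_eq_add_of_le (not_lt.1 hmp)
      exact not_sq_dvd_factorial (by omega)
  exact hP default (cyclic_of_not_sq_dvd (fun h => h2 (h.trans h1)) _)

theorem row_alt (S : Type u) [Group S] [Finite S] [IsSimpleGroup S] (h11 : 11 ≤ p) (hM : IsPModular p M) {m : ℕ} (h5 : 5 ≤ m)
    (e : Nonempty (S ≃* alternatingGroup (Fin m))) (hP : ∀ P : Sylow p S, ¬ IsCyclic (P : Subgroup S)) : Row p M S := by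
  obtain ⟨e⟩ := e
  have : M.IsPrime := hM.2.1.isPrime
  have hm := two_mul_le h5 e hP
  have hk := kB_perm hM (by omega) hm
  have hidx : (alternatingGroup (Fin m)).index = 2 := by
    have : Nontrivial (Fin m) := Fin.nontrivial_iff_two_le.2 (by omega)
    exact alternatingGroup.index_eq_two
  have hN := kB_le_mul hM (alternatingGroup (Fin m))
  rw [hidx] at hN
  intro A _ _ T _ hT _ hcop
  obtain ⟨e'⟩ := hT
  let f : T ≃* alternatingGroup (Fin m) := e'.symm.trans e
  have hbij := S2119.result m (by omega) (by omega)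
  have hkap : kap M (alternatingGroup (Fin m)) ≤ kap M T := by
    refine kap_le f fun a => ?_
    obtain ⟨g, hg⟩ := hbij.2 ((f.symm.trans (MulAut.conjNormal a : MulAut T)).trans f)
    refine ⟨g, fun t => ?_⟩
    rw [hg]
    simp
  have hker : 1 ≤ ker M T := by
    have := Characters.Core.finite_irr (G := A)
    have h1 : Nonempty {χ : IrrCharacter A // χ ∈ principalBlock M A ∧ ∀ s ∈ T, (χ : A → ℂ) s = (χ : A → ℂ) 1} := by
      refine ⟨⟨⟨fun _ => 1, Cfsg.Agent.Blocks.Basic.isIrrCharacter_one⟩, ?_, fun _ _ => rfl⟩⟩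
      exact Cfsg.Agent.Blocks.Basic.mem_blockOf_self (M := M) (⟨fun _ => 1, Cfsg.Agent.Blocks.Basic.isIrrCharacter_one⟩ : IrrCharacter A)
    exact Nat.card_pos
  have hodd : p % 2 = 1 := by
    rcases hp.out.eq_two_or_odd with h | h
    · omega
    · exact h
  refine H270.KB.ar3 ?_ (H546.KB.ker_add_kap_le T hM hcop) hker (by omega)
  have h6 : p + 3 ≤ 2 * kap M T := by omega
  obtain ⟨q, rfl⟩ : ∃ q, p = q + 1 := ⟨p - 1, by omega⟩
  rw [Nat.add_sub_cancel]
  have h7 : (q + 4) ^ 2 ≤ 4 * kap M T ^ 2 := by nlinarith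
  nlinarith [sq_nonneg ((q : ℤ) - 4)]

end Cfsg.Agent.H328.KB
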